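import Cfsg.Agent.H920.HT.RegTwo
import Cfsg.Agent.H195.HT.Fac

/-!
# S4933, box H2: degrees of the two constituents, the four kinds of forms (helper637)

`not_dvd_sp`, `not_dvd_plus`, `not_dvd_odd`, `not_dvd_minus` : `2 c = ord_p(q)`, the forms of Witt index `2 c`; `Y ≠ Y'`, `Y` in
the principal block, `Y + Y' = 0` on the elements which fix no totally singular `2 c`-space: `p` does not divide `Y(1)`.
`both_*` : `p ∣ Y(1) + Y'(1)`: `p` divides neither `Y(1)` nor `Y'(1)`.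
-/

set_option autoImplicit false
set_option linter.unusedSectionVars false

namespace Cfsg.Agent.H637.HT

open Module Cfsg Cfsg.Agent.H477.HC Cfsg.Agent.H477.HC.CForm Cfsg.Agent.H53.HC

universe u v

theorem dvd_pow_add_one {p q c : ℕ} [Fact p.Prime] (hc : 0 < c) (ho : orderOf ((q : ℕ) : ZMod p) = 2 * c) :
    p ∣ q ^ c + 1 := by
  have h1 : ((q : ℕ) : ZMod p) ^ c * ((q : ℕ) : ZMod p) ^ c = 1 := by
    rw [← pow_add, ← two_mul, ← ho]
    exact pow_orderOf_eq_one _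
  rcases mul_self_eq_one_iff.1 h1 with h2 | h2
  · exfalso
    have h3 := Nat.le_of_dvd hc (orderOf_dvd_of_pow_eq_one h2)
    omega
  · rw [← ZMod.natCast_eq_zero_iff]
    push_cast
    rw [h2]
    exact neg_add_cancel 1

theorem val_pos {p q c : ℕ} [Fact p.Prime] (hc : 0 < c) (ho : orderOf ((q : ℕ) : ZMod p) = 2 * c) :
    0 < padicValNat p (q ^ c + 1) :=
  one_le_padicValNat_of_dvd (Nat.succ_ne_zero _) (dvd_pow_add_one hc ho)

theorem not_dvd_val {p x : ℕ} [Fact p.Prime] : ¬ p ^ (padicValNat p (x + 1) + 1) ∣ x + 1 :=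
  pow_succ_padicValNat_not_dvd (Nat.succ_ne_zero x)

/-- the dimensions -/
theorem dim_spF (K : Type u) [Field K] (c : ℕ) : finrank K (Fin (2 * c) ⊕ Fin (2 * c) → K) = 4 * c := by
  rw [Module.finrank_fintype_fun_eq_card, Fintype.card_sum, Fintype.card_fin]
  ring

theorem dim_oddF (K : Type u) [Field K] (c : ℕ) : finrank K (Unit ⊕ (Fin (2 * c) ⊕ Fin (2 * c)) → K) = 4 * c + 1 := by
  rw [Module.finrank_fintype_fun_eq_card, Fintype.card_sum, Fintype.card_sum, Fintype.card_fin, Fintype.card_unit]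
  ring

theorem dim_minusF (K : Type u) [Field K] (c : ℕ) : finrank K ((Fin (2 * c) ⊕ Fin (2 * c)) ⊕ Fin 2 → K) = 4 * c + 2 := by
  rw [Module.finrank_fintype_fun_eq_card, Fintype.card_sum, Fintype.card_sum, Fintype.card_fin, Fintype.card_fin]
  ring


section kinds

variable (K : Type u) [Field K] [Finite K] {p c : ℕ} [Fact p.Prime]

theorem not_dvd_sp (hp2 : p ≠ 2) (hc : 0 < c)
    (ho : orderOf ((Nat.card K : ℕ) : ZMod p) = 2 * c) {M : Ideal AlgInt} (hM : IsPModular p M)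
    {Y Y' : IrrCharacter (spF K (2 * c)).iso} (hY : Y ∈ principalBlock M (spF K (2 * c)).iso) (hne : Y ≠ Y')
    (hv : ∀ g : (spF K (2 * c)).iso, (∀ W ∈ (spF K (2 * c)).Om (2 * c), g ∉ stabW (spF K (2 * c)).iso.subtype W) →
      (Y : (spF K (2 * c)).iso → ℂ) g + (Y' : (spF K (2 * c)).iso → ℂ) g = 0) :
    ¬ p ∣ charDegree (Y : (spF K (2 * c)).iso → ℂ) := by
  have hc0 : 0 < c := by omega
  exact H920.HT.not_dvd_of_two hp2 (spF K (2 * c)) (val_pos hc0 ho) hc0 ho not_dvd_val (by rw [dim_spF]; omega)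
    (H195.HT.fac_sp K hp2 hc0 ho rfl) hM hY hne hv

theorem both_sp (hp2 : p ≠ 2) (hc : 0 < c)
    (ho : orderOf ((Nat.card K : ℕ) : ZMod p) = 2 * c) {M : Ideal AlgInt} (hM : IsPModular p M)
    {Y Y' : IrrCharacter (spF K (2 * c)).iso} (hY : Y ∈ principalBlock M (spF K (2 * c)).iso) (hne : Y ≠ Y')
    (hv : ∀ g : (spF K (2 * c)).iso, (∀ W ∈ (spF K (2 * c)).Om (2 * c), g ∉ stabW (spF K (2 * c)).iso.subtype W) →
      (Y : (spF K (2 * c)).iso → ℂ) g + (Y' : (spF K (2 * c)).iso → ℂ) g = 0)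
    (hd : p ∣ charDegree (Y : (spF K (2 * c)).iso → ℂ) + charDegree (Y' : (spF K (2 * c)).iso → ℂ)) :
    ¬ p ∣ charDegree (Y : (spF K (2 * c)).iso → ℂ) ∧ ¬ p ∣ charDegree (Y' : (spF K (2 * c)).iso → ℂ) := by
  have h1 := not_dvd_sp K hp2 hc ho hM hY hne hv
  exact ⟨h1, fun h2 => h1 ((Nat.dvd_add_left h2).1 hd)⟩

theorem not_dvd_plus (hp2 : p ≠ 2) (hc : 0 < c)
    (ho : orderOf ((Nat.card K : ℕ) : ZMod p) = 2 * c) {M : Ideal AlgInt} (hM : IsPModular p M)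
    {Y Y' : IrrCharacter (plusF K (2 * c)).iso} (hY : Y ∈ principalBlock M (plusF K (2 * c)).iso) (hne : Y ≠ Y')
    (hv : ∀ g : (plusF K (2 * c)).iso, (∀ W ∈ (plusF K (2 * c)).Om (2 * c), g ∉ stabW (plusF K (2 * c)).iso.subtype W) →
      (Y : (plusF K (2 * c)).iso → ℂ) g + (Y' : (plusF K (2 * c)).iso → ℂ) g = 0) :
    ¬ p ∣ charDegree (Y : (plusF K (2 * c)).iso → ℂ) := by
  have hc0 : 0 < c := by omega
  exact H920.HT.not_dvd_of_two hp2 (plusF K (2 * c)) (val_pos hc0 ho) hc0 ho not_dvd_val (by rw [dim_spF]; omega)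
    (H195.HT.fac_plus K hp2 hc0 ho rfl) hM hY hne hv

theorem both_plus (hp2 : p ≠ 2) (hc : 0 < c)
    (ho : orderOf ((Nat.card K : ℕ) : ZMod p) = 2 * c) {M : Ideal AlgInt} (hM : IsPModular p M)
    {Y Y' : IrrCharacter (plusF K (2 * c)).iso} (hY : Y ∈ principalBlock M (plusF K (2 * c)).iso) (hne : Y ≠ Y')
    (hv : ∀ g : (plusF K (2 * c)).iso, (∀ W ∈ (plusF K (2 * c)).Om (2 * c), g ∉ stabW (plusF K (2 * c)).iso.subtype W) →
      (Y : (plusF K (2 * c)).iso → ℂ) g + (Y' : (plusF K (2 * c)).iso → ℂ) g = 0)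
    (hd : p ∣ charDegree (Y : (plusF K (2 * c)).iso → ℂ) + charDegree (Y' : (plusF K (2 * c)).iso → ℂ)) :
    ¬ p ∣ charDegree (Y : (plusF K (2 * c)).iso → ℂ) ∧ ¬ p ∣ charDegree (Y' : (plusF K (2 * c)).iso → ℂ) := by
  have h1 := not_dvd_plus K hp2 hc ho hM hY hne hv
  exact ⟨h1, fun h2 => h1 ((Nat.dvd_add_left h2).1 hd)⟩

theorem not_dvd_odd (h2 : (2 : K) ≠ 0) (hp2 : p ≠ 2) (hc : 0 < c)
    (ho : orderOf ((Nat.card K : ℕ) : ZMod p) = 2 * c) {M : Ideal AlgInt} (hM : IsPModular p M)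
    {Y Y' : IrrCharacter (oddF K (2 * c) h2).iso} (hY : Y ∈ principalBlock M (oddF K (2 * c) h2).iso) (hne : Y ≠ Y')
    (hv : ∀ g : (oddF K (2 * c) h2).iso, (∀ W ∈ (oddF K (2 * c) h2).Om (2 * c), g ∉ stabW (oddF K (2 * c) h2).iso.subtype W) →
      (Y : (oddF K (2 * c) h2).iso → ℂ) g + (Y' : (oddF K (2 * c) h2).iso → ℂ) g = 0) :
    ¬ p ∣ charDegree (Y : (oddF K (2 * c) h2).iso → ℂ) := by
  have hc0 : 0 < c := by omega
  exact H920.HT.not_dvd_of_two hp2 (oddF K (2 * c) h2) (val_pos hc0 ho) hc0 ho not_dvd_val (by rw [dim_oddF]; omega)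
    (H195.HT.fac_odd K h2 hp2 hc0 ho rfl) hM hY hne hv

theorem both_odd (h2 : (2 : K) ≠ 0) (hp2 : p ≠ 2) (hc : 0 < c)
    (ho : orderOf ((Nat.card K : ℕ) : ZMod p) = 2 * c) {M : Ideal AlgInt} (hM : IsPModular p M)
    {Y Y' : IrrCharacter (oddF K (2 * c) h2).iso} (hY : Y ∈ principalBlock M (oddF K (2 * c) h2).iso) (hne : Y ≠ Y')
    (hv : ∀ g : (oddF K (2 * c) h2).iso, (∀ W ∈ (oddF K (2 * c) h2).Om (2 * c), g ∉ stabW (oddF K (2 * c) h2).iso.subtype W) →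
      (Y : (oddF K (2 * c) h2).iso → ℂ) g + (Y' : (oddF K (2 * c) h2).iso → ℂ) g = 0)
    (hd : p ∣ charDegree (Y : (oddF K (2 * c) h2).iso → ℂ) + charDegree (Y' : (oddF K (2 * c) h2).iso → ℂ)) :
    ¬ p ∣ charDegree (Y : (oddF K (2 * c) h2).iso → ℂ) ∧ ¬ p ∣ charDegree (Y' : (oddF K (2 * c) h2).iso → ℂ) := by
  have h1 := not_dvd_odd K h2 hp2 hc ho hM hY hne hv
  exact ⟨h1, fun h2 => h1 ((Nat.dvd_add_left h2).1 hd)⟩

theorem not_dvd_minus {α β : K} (hab : ∀ z₁ z₂ : K, z₁ ^ 2 + α * z₁ * z₂ + β * z₂ ^ 2 = 0 → z₁ = 0 ∧ z₂ = 0)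
    (hp2 : p ≠ 2) (hc1 : 1 < c)
    (ho : orderOf ((Nat.card K : ℕ) : ZMod p) = 2 * c) {M : Ideal AlgInt} (hM : IsPModular p M)
    {Y Y' : IrrCharacter (minusF K (2 * c) α β hab).iso} (hY : Y ∈ principalBlock M (minusF K (2 * c) α β hab).iso) (hne : Y ≠ Y')
    (hv : ∀ g : (minusF K (2 * c) α β hab).iso, (∀ W ∈ (minusF K (2 * c) α β hab).Om (2 * c), g ∉ stabW (minusF K (2 * c) α β hab).iso.subtype W) →
      (Y : (minusF K (2 * c) α β hab).iso → ℂ) g + (Y' : (minusF K (2 * c) α β hab).iso → ℂ) g = 0) :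
    ¬ p ∣ charDegree (Y : (minusF K (2 * c) α β hab).iso → ℂ) := by
  have hc0 : 0 < c := by omega
  exact H920.HT.not_dvd_of_two hp2 (minusF K (2 * c) α β hab) (val_pos hc0 ho) hc0 ho not_dvd_val (by rw [dim_minusF]; omega)
    (H195.HT.fac_minus K hab hp2 hc1 ho rfl) hM hY hne hv

theorem both_minus {α β : K} (hab : ∀ z₁ z₂ : K, z₁ ^ 2 + α * z₁ * z₂ + β * z₂ ^ 2 = 0 → z₁ = 0 ∧ z₂ = 0)
    (hp2 : p ≠ 2) (hc1 : 1 < c)
    (ho : orderOf ((Nat.card K : ℕ) : ZMod p) = 2 * c) {M : Ideal AlgInt} (hM : IsPModular p M)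
    {Y Y' : IrrCharacter (minusF K (2 * c) α β hab).iso} (hY : Y ∈ principalBlock M (minusF K (2 * c) α β hab).iso) (hne : Y ≠ Y')
    (hv : ∀ g : (minusF K (2 * c) α β hab).iso, (∀ W ∈ (minusF K (2 * c) α β hab).Om (2 * c), g ∉ stabW (minusF K (2 * c) α β hab).iso.subtype W) →
      (Y : (minusF K (2 * c) α β hab).iso → ℂ) g + (Y' : (minusF K (2 * c) α β hab).iso → ℂ) g = 0)
    (hd : p ∣ charDegree (Y : (minusF K (2 * c) α β hab).iso → ℂ) + charDegree (Y' : (minusF K (2 * c) α β hab).iso → ℂ)) :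
    ¬ p ∣ charDegree (Y : (minusF K (2 * c) α β hab).iso → ℂ) ∧ ¬ p ∣ charDegree (Y' : (minusF K (2 * c) α β hab).iso → ℂ) := by
  have h1 := not_dvd_minus K hab hp2 hc1 ho hM hY hne hv
  exact ⟨h1, fun h2 => h1 ((Nat.dvd_add_left h2).1 hd)⟩

end kinds

end Cfsg.Agent.H637.HT
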